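import Mathlib
import Cfsg.Agent.DegPred.AltSquare
import Cfsg.Agent.BrauerFew.Pre

/-!
A group with a self centralising Sylow subgroup of order `p ≥ 7`, normaliser of order `2 p` and a faithful
rational character of degree `p - 1` has order `p (p - 1) (p - 2)`.
-/

set_option autoImplicit false
set_option linter.style.haveILetI false
set_option linter.unusedSectionVars false

namespace CfsgLib.DegPred

open Cfsg CfsgLib.CharBasics CfsgLib.DefectOne
open scoped ComplexConjugate

universe u

variable {G : Type u} [Group G] [Fintype G] {p : ℕ} [Fact p.Prime]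

/-- The hypotheses. -/
structure Hyp (D : Data G p) (χ : IrrCharacter G) : Prop where
  cardV : Nat.card D.V = 1
  cardH : Nat.card D.H = 2
  five_le : 5 ≤ p
  deg : charDegree (χ : G → ℂ) = p - 1
  sing : ∀ g : G, p ∣ orderOf g → (χ : G → ℂ) g = -1

variable {D : Data G p} {χ : IrrCharacter G}

theorem Hyp.card_U (h : Hyp D χ) : Nat.card (D.U D.one) = 2 := by
  rw [D.card_U_one, ← h.cardH, ← Subgroup.index_mul_card D.V, h.cardV, mul_one]

theorem Hyp.two_mul_t (h : Hyp D χ) : 2 * (D.U D.one).index = p - 1 :=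
  h.card_U ▸ D.card_U_mul_index D.one

theorem Hyp.apply_one' (h : Hyp D χ) : (χ : G → ℂ) 1 = (p : ℂ) - 1 := by
  rw [apply_one (isCharacter_of_irr χ.2), h.deg, Nat.cast_sub D.hp.one_le, Nat.cast_one]

/-- The involution of the normaliser inverts `x`. -/
theorem Hyp.exists_inverting (h : Hyp D χ) :
    ∃ z : G, z ∈ D.H ∧ z * z = 1 ∧ z ≠ 1 ∧ ∀ y ∈ D.H, y = 1 ∨ y = z ∧ z * D.x * z⁻¹ = D.x⁻¹ := by
  classical
  obtain ⟨z, hz1, huniq⟩ := (Nat.card_eq_two_iff' (1 : D.H)).1 h.cardH
  have hz2 : z * z = 1 := by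
    by_contra hne
    have := huniq (z * z) hne
    exact hz1 (mul_eq_left.1 this)
  have hinj : Function.Injective D.rHom := by
    rw [← MonoidHom.ker_eq_bot_iff, D.ker_rHom]
    exact Subgroup.eq_bot_of_card_eq _ h.cardV
  have hr : (D.rHom z : ZMod p) = -1 := by
    have h1 : (D.rHom z : ZMod p) * (D.rHom z : ZMod p) = 1 := by
      rw [← Units.val_mul, ← map_mul, hz2, map_one, Units.val_one]
    exact (mul_self_eq_one_iff.1 h1).resolve_left fun h2 =>
      hz1 (hinj (by rw [map_one]; exact Units.ext (by rw [h2, Units.val_one])))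
  refine ⟨z, z.2, congrArg Subtype.val hz2, fun e => hz1 (Subtype.ext e), fun y hy => ?_⟩
  rcases eq_or_ne (⟨y, hy⟩ : D.H) 1 with e | e
  · exact Or.inl (congrArg Subtype.val e)
  · refine Or.inr ⟨congrArg Subtype.val (huniq _ e), ?_⟩
    rw [D.conj_x, show D.r z = -1 by rw [← D.rHom_apply, hr]]
    haveI : NeZero p := ⟨D.hp.ne_zero⟩
    refine eq_inv_of_mul_eq_one_left ?_
    rw [← pow_succ]
    refine orderOf_dvd_iff_pow_eq_one.1 ?_
    rw [D.hx, ← ZMod.natCast_eq_zero_iff]
    push_cast
    rw [ZMod.natCast_zmod_val, neg_add_cancel]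

/-- The character and the family of the block. -/
theorem Hyp.family (h : Hyp D χ) :
    ∃ F : D.Family D.one, (∀ q, F.θ q ≠ χ ∧ F.θ q ≠ oneChar) ∧ χ ≠ oneChar ∧
      (∀ q g, ¬ p ∣ orderOf g → (F.θ q : G → ℂ) g = (χ : G → ℂ) g - 1) ∧
      ∀ g, p ∣ orderOf g → ∑ q, (F.θ q : G → ℂ) g = 1 := by
  classical
  have hp := D.hp
  have hp5 := h.five_le
  obtain ⟨M, hM⟩ := CfsgLib.Blocks.exists_modular hp
  obtain ⟨F⟩ := D.exists_family hM D.one
  have hone : charDegree ((oneChar : IrrCharacter G) : G → ℂ) = 1 := BrauerFew.deg_oneChar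
  have hne : ∀ q, (F.θ q) ≠ χ ∧ F.θ q ≠ oneChar := by
    intro q
    have h1 := D.deg_theta hM F q
    rw [BrauerFew.deg_one_char, mul_one, ← D.card_U_one, h.card_U, Int.modEq_iff_dvd] at h1
    constructor
    · intro e
      rw [e, h.deg, Nat.cast_sub hp.one_le] at h1
      have h3 : (p : ℤ) ∣ F.ε * 2 + 1 := by
        have := dvd_add h1 (dvd_refl (p : ℤ))
        push_cast at this
        ring_nf at this ⊢
        exact this
      rcases F.sign with s | s <;> rw [s] at h3
      · have := Int.le_of_dvd (by norm_num) h3; omega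
      · have := Int.le_of_dvd (by norm_num) (dvd_neg.2 h3); omega
    · intro e
      rw [e, hone] at h1
      push_cast at h1
      rcases F.sign with s | s <;> rw [s] at h1
      · have := Int.le_of_dvd (by norm_num) h1; omega
      · have := Int.le_of_dvd (by norm_num) (dvd_neg.2 h1); omega
  have hχblk : χ ∈ D.blk D.one := by
    by_contra hb
    have h1 := D.vanish_of_not_blk (χ := χ) (fun φ => BrauerReynolds.irr_V_eq_one D h.cardV φ ▸ hb) (g := D.x)
      (dvd_of_eq D.hx.symm)
    rw [h.sing _ (dvd_of_eq D.hx.symm)] at h1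
    norm_num at h1
  have hχ1 : χ ≠ oneChar := fun e => by
    have h1 := congrFun (congrArg Subtype.val e) D.x
    rw [h.sing _ (dvd_of_eq D.hx.symm), oneChar_apply] at h1
    norm_num at h1
  have hχrest : χ ∈ D.rest F := ⟨hχblk, fun ⟨q, hq⟩ => (hne q).1 hq⟩
  have honerest : oneChar ∈ D.rest F := ⟨D.oneChar_mem_blk, fun ⟨q, hq⟩ => (hne q).2 hq⟩
  have hrest : D.rest F = {(oneChar : IrrCharacter G), χ} := by
    refine (Set.eq_of_subset_of_ncard_le ?_ ?_ (Set.toFinite _)).symm
    · intro ξ hξ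
      rcases hξ with rfl | rfl
      · exact honerest
      · exact hχrest
    · rw [← Nat.card_coe_set_eq, D.card_rest hM F, h.card_U, Set.ncard_pair (Ne.symm hχ1)]
  have hdχ : D.d χ 1 D.one = 1 := by
    have h1 := D.apply_pt_rest hM F hχrest one_ne_zero 1
    rw [← BrauerFew.x_eq_pt, h.sing _ (dvd_of_eq D.hx.symm), D.osum_one, mul_one, neg_inj] at h1
    exact_mod_cast h1.symm
  have hrel : ∀ q g, ¬ p ∣ orderOf g → (F.ε : ℂ) * (F.θ q : G → ℂ) g = 1 - (χ : G → ℂ) g := fun q g hg => by
    have h1 := D.regular_relation F q hg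
    rw [hrest, finsum_mem_pair (Ne.symm hχ1), BrauerReynolds.d_oneChar D one_ne_zero, hdχ, oneChar_apply] at h1
    push_cast at h1
    linear_combination h1
  have hε : F.ε = -1 := by
    refine F.sign.resolve_left fun s => ?_
    have h1 := hrel 1 1 (by rw [orderOf_one]; exact hp.not_dvd_one)
    rw [s, h.apply_one', apply_one (isCharacter_of_irr (F.θ 1).2)] at h1
    have h2 : ((charDegree (F.θ 1 : G → ℂ) + p : ℕ) : ℂ) = ((2 : ℕ) : ℂ) := by
      push_cast at h1 ⊢
      linear_combination h1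
    have := Nat.cast_injective h2
    omega
  refine ⟨F, hne, hχ1, fun q g hg => ?_, fun g hg => ?_⟩
  · have h1 := hrel q g hg
    rw [hε] at h1
    push_cast at h1
    linear_combination -h1
  · obtain ⟨y, i, v, hi, hy⟩ := D.exists_conj_pt hg
    rw [Finset.sum_congr rfl fun q _ => show (F.θ q : G → ℂ) g = (F.θ q : G → ℂ) (D.pt (i, v)) by
      rw [← hy, Data.isClassFunction_irr]]
    simp only [BrauerFew.apply_pt_one hM (D.theta_mem_blk F _) hi]
    rw [Finset.sum_comm]
    simp only [← Finset.sum_mul]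
    rw [BrauerFew.sum_nonzero_ee hi _ (F.ε : ℂ) (by simp [D.d_zero]) fun j hj => ?_, hε]
    · push_cast; rw [neg_neg]
    · rw [← Units.val_mk0 hj]
      simp only [F.d_eq', Int.cast_ite, Int.cast_zero, Finset.sum_ite_eq', Finset.mem_univ, if_true]

/-- The singular elements. -/
noncomputable def singSet (p : ℕ) (G : Type u) [Group G] [Fintype G] : Finset G :=
  Finset.univ.filter fun g => p ∣ orderOf g

/-- The regular elements. -/
noncomputable def regSet (p : ℕ) (G : Type u) [Group G] [Fintype G] : Finset G :=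
  Finset.univ.filter fun g => ¬ p ∣ orderOf g

theorem mem_sing {g : G} : g ∈ singSet p G ↔ p ∣ orderOf g := by simp [singSet]

theorem mem_reg {g : G} : g ∈ regSet p G ↔ ¬ p ∣ orderOf g := by simp [regSet]

theorem sum_reg_add_sing (f : G → ℂ) : ∑ g ∈ regSet p G, f g + ∑ g ∈ singSet p G, f g = ∑ g, f g := by
  classical
  rw [add_comm]
  exact Finset.sum_filter_add_sum_filter_not _ _ _

theorem card_reg_add_sing : ((regSet p G).card : ℂ) + (singSet p G).card = Nat.card G := by
  have := sum_reg_add_sing (G := G) (p := p) fun _ => 1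
  simp only [Finset.sum_const, nsmul_eq_mul, mul_one, Finset.card_univ] at this
  rwa [← Nat.card_eq_fintype_card] at this

theorem sum_conj_irr_eq_zero {ψ : IrrCharacter G} (hψ : ψ ≠ oneChar) : ∑ g : G, conj ((ψ : G → ℂ) g) = 0 := by
  have h1 := classInner_ne (oneChar : IrrCharacter G).2 ψ.2 (fun e => hψ (Subtype.ext e.symm))
  rw [classInner_eq] at h1
  have h2 := (mul_eq_zero.1 h1).resolve_left (inv_ne_zero (Nat.cast_ne_zero.2 Nat.card_pos.ne'))
  simpa [oneChar_apply] using h2

/-- The number of singular elements. -/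
theorem Hyp.card_sing (h : Hyp D χ) :
    ∑ g ∈ regSet p G, conj ((χ : G → ℂ) g) = (singSet p G).card ∧
      (p : ℂ) * (singSet p G).card = ((D.U D.one).index : ℂ) * Nat.card G := by
  classical
  obtain ⟨F, hne, hχ1, hθ, hΘ⟩ := h.family
  have h1 := sum_reg_add_sing (p := p) fun g : G => conj ((χ : G → ℂ) g)
  rw [sum_conj_irr_eq_zero hχ1, Finset.sum_congr rfl (s₁ := singSet p G) (g := fun _ => (-1 : ℂ)) (fun g hg => by
    rw [h.sing g (mem_sing.1 hg), map_neg, map_one]), Finset.sum_const, nsmul_eq_mul] at h1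
  have h2 : ∑ g ∈ regSet p G, conj ((χ : G → ℂ) g) = (singSet p G).card := by linear_combination h1
  refine ⟨h2, ?_⟩
  have h3 := sum_reg_add_sing (p := p) fun g : G => ∑ q, conj ((F.θ q : G → ℂ) g)
  rw [Finset.sum_comm (s := (Finset.univ : Finset G)), Finset.sum_eq_zero (fun q _ => sum_conj_irr_eq_zero (hne q).2),
    Finset.sum_congr rfl (s₁ := regSet p G) (g := fun g => ((D.U D.one).index : ℂ) * (conj ((χ : G → ℂ) g) - 1))
      (fun g hg => by
        rw [Finset.sum_congr rfl (fun q _ => by rw [hθ q g (mem_reg.1 hg)]), Finset.sum_const, Finset.card_univ,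
          D.card_Idx, map_sub, map_one, nsmul_eq_mul]),
    Finset.sum_congr rfl (s₁ := singSet p G) (g := fun _ => (1 : ℂ)) (fun g hg => by
      rw [← map_sum, hΘ g (mem_sing.1 hg), map_one]),
    ← Finset.mul_sum, Finset.sum_sub_distrib, h2, Finset.sum_const, Finset.sum_const, nsmul_eq_mul, nsmul_eq_mul,
    mul_one, mul_one] at h3
  have h4 := card_reg_add_sing (G := G) (p := p)
  have h5 : 2 * ((D.U D.one).index : ℂ) = (p : ℂ) - 1 := by
    have : ((2 * (D.U D.one).index : ℕ) : ℂ) = ((p - 1 : ℕ) : ℂ) := by rw [h.two_mul_t]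
    rwa [Nat.cast_mul, Nat.cast_sub D.hp.one_le, Nat.cast_one, Nat.cast_ofNat] at this
  linear_combination h3 + ((D.U D.one).index : ℂ) * h4 - ((singSet p G).card : ℂ) * h5

/-- The alternating square of the character on regular elements. -/
theorem Hyp.alt_eq (h : Hyp D χ) {g : G} (hg : ¬ p ∣ orderOf g) :
    ((χ : G → ℂ) g * (χ : G → ℂ) g - (χ : G → ℂ) (g * g)) / 2 =
      ((D.U D.one).index : ℂ) * ((χ : G → ℂ) g - 1) := by
  classical
  haveI : Fintype (IrrCharacter G) := Fintype.ofFinite _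
  obtain ⟨F, hne, hχ1, hθ, hΘ⟩ := h.family
  have hp := D.hp
  have hp5 := h.five_le
  set t := (D.U D.one).index with ht
  have h2t := h.two_mul_t
  set A : G → ℂ := fun g => ((χ : G → ℂ) g * (χ : G → ℂ) g - (χ : G → ℂ) (g * g)) / 2 with hA
  have hAc : IsCharacter G A := isCharacter_alt (isCharacter_of_irr χ.2)
  choose m hm using fun ψ : IrrCharacter G => classInner_character_nat hAc ψ
  have hexp : A = ∑ ψ : IrrCharacter G, (m ψ : ℂ) • (ψ : G → ℂ) := by
    conv_lhs => rw [classFun_expand (isClassFunction hAc)]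
    exact Finset.sum_congr rfl fun ψ _ => by rw [hm]
  have hsq : ∀ g : G, p ∣ orderOf g → p ∣ orderOf (g * g) := fun g hg => by
    rw [← sq, orderOf_pow' g two_ne_zero]
    refine (Nat.dvd_div_iff_mul_dvd (Nat.gcd_dvd_left _ _)).2 ?_
    exact Nat.Coprime.mul_dvd_of_dvd_of_dvd (Nat.Coprime.coprime_dvd_left (Nat.gcd_dvd_right _ _)
      ((Nat.coprime_primes Nat.prime_two hp).2 (by omega))) (Nat.gcd_dvd_left _ _) hg
  have hAs : ∀ g : G, p ∣ orderOf g → A g = 1 := fun g hg => by
    simp only [hA]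
    rw [h.sing g hg, h.sing _ (hsq g hg)]
    norm_num
  -- the trivial character does not occur: restrict to the normaliser
  have hm1 : m oneChar = 0 := by
    obtain ⟨z, hzH, hzz, hz1, hz⟩ := h.exists_inverting
    have hzx : z * D.x * z⁻¹ = D.x⁻¹ := ((hz z hzH).resolve_left hz1).2
    set P := Subgroup.zpowers D.x
    set N := Subgroup.normalizer (P : Set G) with hN
    have hNc : Nat.card N = p * 2 := by rw [hN, D.card_normalizer, h.cardH]
    set L : Finset G := (Finset.univ : Finset (ZMod p × Fin 2)).image fun q =>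
      D.x ^ q.1.val * z ^ (q.2 : ℕ) with hL
    have hxN : D.x ∈ N := Subgroup.le_normalizer (Subgroup.mem_zpowers D.x)
    have hzN : z ∈ N := (normalizer_iff_zpowers D.x z).2 (by rw [hzx]; exact Subgroup.inv_mem _ (Subgroup.mem_zpowers _))
    have hpow : ∀ c : Fin 2, z ^ (c : ℕ) ∈ D.H := fun c => Subgroup.pow_mem _ hzH _
    have hinj : Function.Injective fun q : ZMod p × Fin 2 => D.x ^ q.1.val * z ^ (q.2 : ℕ) := by
      rintro ⟨k, c⟩ ⟨k', c'⟩ he
      have h1 := D.pow_mul_H_inj (h := ⟨_, hpow c⟩) (h' := ⟨_, hpow c'⟩) he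
      refine Prod.ext h1.1 ?_
      have h2 : z ^ (c : ℕ) = z ^ (c' : ℕ) := congrArg Subtype.val h1.2
      fin_cases c <;> fin_cases c' <;> simp_all
    have hLN : ∀ g : G, g ∈ L ↔ g ∈ N := by
      haveI : NeZero p := ⟨hp.ne_zero⟩
      have hsub : L ⊆ Finset.univ.filter (fun g => g ∈ N) := fun g hg => by
        obtain ⟨q, -, rfl⟩ := Finset.mem_image.1 hg
        exact Finset.mem_filter.2 ⟨Finset.mem_univ _,
          Subgroup.mul_mem _ (Subgroup.pow_mem _ hxN _) (Subgroup.pow_mem _ hzN _)⟩
      have heq := Finset.eq_of_subset_of_card_le hsub (by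
        rw [← Fintype.card_subtype, ← Nat.card_eq_fintype_card, hL, Finset.card_image_of_injective _ hinj,
          Finset.card_univ, Fintype.card_prod, ZMod.card, Fintype.card_fin]
        exact hNc.le)
      intro g
      rw [heq]
      simp
    -- values on the normaliser
    have hord : ∀ k : ZMod p, k ≠ 0 → p ∣ orderOf (D.x ^ k.val) := fun k hk => by rw [D.orderOf_x_pow hk]
    have hsum_x : ∀ (f : G → ℂ) (c : ℂ), (∀ g, p ∣ orderOf g → f g = c) →
        ∑ k : ZMod p, f (D.x ^ k.val) = f 1 + ((p : ℂ) - 1) * c := by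
      intro f c hf
      haveI : NeZero p := ⟨hp.ne_zero⟩
      rw [← Finset.add_sum_erase _ _ (Finset.mem_univ (0 : ZMod p)), ZMod.val_zero, pow_zero,
        Finset.sum_congr rfl (fun k hk => hf _ (hord k (Finset.mem_erase.1 hk).1)), Finset.sum_const,
        Finset.card_erase_of_mem (Finset.mem_univ _), Finset.card_univ, ZMod.card, nsmul_eq_mul, Nat.cast_sub hp.one_le,
        Nat.cast_one]
    have hconj : ∀ k : ZMod p, ∀ f : G → ℂ, IsClassFunction G f → f (D.x ^ k.val * z) = f z := by
      intro k f hf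
      haveI : NeZero p := ⟨hp.ne_zero⟩
      obtain ⟨j, hj⟩ : ∃ j : ℕ, D.x ^ k.val = D.x ^ (j + j) := by
        refine ⟨((2 : ZMod p)⁻¹ * k).val, D.pow_eq_iff.2 ?_⟩
        push_cast
        rw [ZMod.natCast_zmod_val, ZMod.natCast_zmod_val]
        have h2 : (2 : ZMod p) ≠ 0 := fun e => by
          have := (ZMod.natCast_eq_zero_iff 2 p).1 (by exact_mod_cast e)
          have := Nat.le_of_dvd (by norm_num) this
          omega
        field_simp
        ring
      have h1 : (D.x ^ j) * z * (D.x ^ j)⁻¹ = D.x ^ (j + j) * z := by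
        have h2 : z * (D.x ^ j)⁻¹ * z⁻¹ = D.x ^ j := by
          have := conj_pow (a := z) (b := D.x) (i := j)
          rw [hzx, inv_pow] at this
          rw [← conj_inv, ← this, inv_inv]
        rw [pow_add, mul_assoc (D.x ^ j) (D.x ^ j) z, mul_assoc]
        congr 1
        exact mul_inv_eq_iff_eq_mul.1 h2
      rw [hj, ← h1, hf]
    -- the sum of a class function over the normaliser
    have hNsum : ∀ (f : G → ℂ) (c : ℂ), IsClassFunction G f → (∀ g, p ∣ orderOf g → f g = c) →
        ∑ g ∈ L, f g = f 1 + ((p : ℂ) - 1) * c + (p : ℂ) * f z := by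
      intro f c hf hc
      haveI : NeZero p := ⟨hp.ne_zero⟩
      rw [hL, Finset.sum_image (fun a _ b _ e => hinj e), Fintype.sum_prod_type]
      simp only [Fin.sum_univ_two, Fin.val_zero, Fin.val_one, pow_zero, mul_one, pow_one, Finset.sum_add_distrib,
        hconj _ f hf]
      rw [hsum_x f c hc, Finset.sum_const, Finset.card_univ, ZMod.card, nsmul_eq_mul]
    -- `χ` vanishes at the involution
    have hnatN : ∀ (f : G → ℂ) (l : N →* ℂ), IsCharacter G f → (∀ g : N, conj (l g) = l g) →
        ∃ k : ℕ, ∑ g : N, f g * l g = (Nat.card N : ℂ) * k := by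
      intro f l hf hl
      obtain ⟨k, hk⟩ := classInner_characters_nat (CharBasics.isCharacter_comp hf N.subtype)
        (Exceptional.isCharacter_monoidHom l)
      refine ⟨k, ?_⟩
      rw [classInner_eq] at hk
      simp only [hl] at hk
      rw [← hk, mul_inv_cancel_left₀ (Nat.cast_ne_zero.2 Nat.card_pos.ne')]
      rfl
    have hLsum : ∀ f : G → ℂ, ∑ g : N, f g = ∑ g ∈ L, f g := fun f => (Finset.sum_subtype L hLN f).symm
    have hχz : (χ : G → ℂ) z = 0 := by
      -- the trivial and the sign character of the normaliser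
      let l : N →* ℂ :=
        { toFun := fun g => if (g : G) * D.x = D.x * g then 1 else -1
          map_one' := by simp
          map_mul' := by
            have hcase : ∀ g : N, (g : G) * D.x * (g : G)⁻¹ = D.x ∨ (g : G) * D.x * (g : G)⁻¹ = D.x⁻¹ := by
              intro g
              obtain ⟨⟨k, c⟩, -, hq⟩ := Finset.mem_image.1 ((hLN (g : G)).2 g.2)
              simp only at hq
              rw [← hq]
              have hgen : ∀ w u : G, w * D.x * w⁻¹ = u → Commute (D.x ^ k.val) u →
                  D.x ^ k.val * w * D.x * (D.x ^ k.val * w)⁻¹ = u := by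
                intro w u hw hcu
                calc D.x ^ k.val * w * D.x * (D.x ^ k.val * w)⁻¹ = D.x ^ k.val * (w * D.x * w⁻¹) * (D.x ^ k.val)⁻¹ := by
                      simp [mul_assoc]
                  _ = u := by rw [hw, hcu.eq, mul_inv_cancel_right]
              fin_cases c
              · exact Or.inl (hgen _ _ (by simp) ((Commute.refl D.x).pow_left _))
              · exact Or.inr (hgen _ _ (by simpa using hzx) ((Commute.refl D.x).pow_left _).inv_right)
            have hne : D.x⁻¹ ≠ D.x := fun e => by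
              have : D.x ^ 2 = 1 := by rw [sq]; nth_rw 1 [← e]; exact inv_mul_cancel _
              have := Nat.le_of_dvd two_pos (D.hx ▸ orderOf_dvd_of_pow_eq_one this)
              omega
            have hiff : ∀ g : G, g * D.x = D.x * g ↔ g * D.x * g⁻¹ = D.x := fun g => mul_inv_eq_iff_eq_mul.symm
            intro a b
            have hmul : ((a * b : N) : G) * D.x * ((a * b : N) : G)⁻¹ =
                (a : G) * ((b : G) * D.x * (b : G)⁻¹) * (a : G)⁻¹ := by simp [mul_assoc]
            simp only [hiff, hmul]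
            rcases hcase a with ha | ha <;> rcases hcase b with hb | hb
            · simp [ha, hb]
            · have : (a : G) * D.x⁻¹ * (a : G)⁻¹ = D.x⁻¹ := by rw [← conj_inv, ha]
              simp [ha, hb, this, hne]
            · simp [ha, hb, hne]
            · have : (a : G) * D.x⁻¹ * (a : G)⁻¹ = D.x := by rw [← conj_inv, ha, inv_inv]
              simp [ha, hb, this, hne] }
      have hlc : ∀ g : N, conj (l g) = l g := fun g => by
        show conj (if (g : G) * D.x = D.x * g then (1 : ℂ) else -1) = _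
        split_ifs with e <;> simp [l, e]
      obtain ⟨k1, hk1⟩ := hnatN _ 1 (isCharacter_of_irr χ.2) (fun g => by simp)
      obtain ⟨k2, hk2⟩ := hnatN _ l (isCharacter_of_irr χ.2) hlc
      simp only [MonoidHom.one_apply, mul_one] at hk1
      rw [hLsum, hNsum _ (-1) (Data.isClassFunction_irr χ) h.sing, h.apply_one'] at hk1
      have hl : ∑ g : N, (χ : G → ℂ) g * l g = (χ : G → ℂ) 1 + ((p : ℂ) - 1) * (-1) - (p : ℂ) * (χ : G → ℂ) z := by
        show ∑ g : N, (fun x : G => (χ : G → ℂ) x * (if x * D.x = D.x * x then (1 : ℂ) else -1)) g = _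
        rw [← Finset.sum_subtype L hLN (fun x : G => (χ : G → ℂ) x * (if x * D.x = D.x * x then (1 : ℂ) else -1)), hL,
          Finset.sum_image (fun a _ b _ e => hinj e), Fintype.sum_prod_type]
        simp only [Fin.sum_univ_two, Fin.val_zero, Fin.val_one, pow_zero, mul_one, pow_one, Finset.sum_add_distrib]
        have hn : ∀ k : ZMod p, ¬ D.x ^ k.val * z * D.x = D.x * (D.x ^ k.val * z) := fun k e => by
          rw [← mul_assoc D.x, ((Commute.refl D.x).pow_right k.val).eq, mul_assoc, mul_assoc, mul_left_cancel_iff] at e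
          rw [mul_inv_eq_iff_eq_mul.2 e] at hzx
          have : D.x ^ 2 = 1 := by rw [sq]; nth_rw 1 [hzx]; exact inv_mul_cancel _
          have := Nat.le_of_dvd two_pos (D.hx ▸ orderOf_dvd_of_pow_eq_one this)
          omega
        simp only [(fun k : ℕ => ((Commute.refl D.x).pow_left k).eq), if_true, mul_one, hn, if_false, mul_neg_one,
          hconj _ _ (Data.isClassFunction_irr χ), Finset.sum_neg_distrib]
        rw [hsum_x _ (-1) h.sing, Finset.sum_const, Finset.card_univ, ZMod.card, nsmul_eq_mul]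
        ring
      rw [hl, h.apply_one', hNc] at hk2
      rw [hNc] at hk1
      push_cast at hk1 hk2
      have hp0 : (p : ℂ) ≠ 0 := Nat.cast_ne_zero.2 hp.ne_zero
      have h3 : ((k1 + k2 : ℕ) : ℂ) = 0 := by
        push_cast
        refine mul_left_cancel₀ (mul_ne_zero hp0 (two_ne_zero (α := ℂ))) ?_
        linear_combination -hk1 - hk2
      have h4 : k1 + k2 = 0 := by exact_mod_cast h3
      rw [show k1 = 0 by omega, Nat.cast_zero, mul_zero] at hk1
      refine (mul_eq_zero.1 (?_ : (p : ℂ) * (χ : G → ℂ) z = 0)).resolve_left hp0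
      linear_combination hk1
    obtain ⟨k, hk⟩ := hnatN _ 1 hAc (fun g => by simp)
    simp only [MonoidHom.one_apply, mul_one] at hk
    have hAN : ∑ g : N, A g = 0 := by
      rw [hLsum, hNsum A 1 (isClassFunction hAc) hAs, hA]
      simp only [one_mul, hzz, hχz, h.apply_one']
      ring
    have hzero : ∑ ψ : IrrCharacter G, (m ψ : ℂ) * ∑ g : N, (ψ : G → ℂ) g = 0 := by
      simp only [Finset.mul_sum]
      rw [Finset.sum_comm, ← hAN]
      refine Finset.sum_congr rfl fun g _ => ?_
      rw [congrFun hexp (g : G), Finset.sum_apply]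
      rfl
    choose k' hk' using fun ψ : IrrCharacter G => hnatN (ψ : G → ℂ) 1 (isCharacter_of_irr ψ.2) (fun g => by simp)
    simp only [MonoidHom.one_apply, mul_one] at hk'
    simp only [hk'] at hzero
    have h5 : ∑ ψ : IrrCharacter G, m ψ * (Nat.card N * k' ψ) = 0 := by
      have : ((∑ ψ : IrrCharacter G, m ψ * (Nat.card N * k' ψ) : ℕ) : ℂ) = 0 := by push_cast; exact hzero
      exact_mod_cast this
    have h6 := Finset.sum_eq_zero_iff.1 h5 oneChar (Finset.mem_univ _)
    refine (Nat.mul_eq_zero.1 h6).resolve_right fun e => ?_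
    have h7 := hk' oneChar
    rw [← Nat.cast_mul, e] at h7
    simp only [oneChar_apply, Finset.sum_const, Finset.card_univ, nsmul_eq_mul, mul_one] at h7
    exact Fintype.card_ne_zero (by exact_mod_cast h7)
  -- multiplicities
  have hcard : (Nat.card G : ℂ) ≠ 0 := Nat.cast_ne_zero.2 Nat.card_pos.ne'
  obtain ⟨hRχ, -⟩ := h.card_sing
  have hAreg : ∑ g ∈ regSet p G, A g = -((singSet p G).card : ℂ) := by
    have h1 := hm oneChar
    rw [hm1, Nat.cast_zero, classInner_eq] at h1
    have h2 := (mul_eq_zero.1 h1).resolve_left (inv_ne_zero hcard)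
    simp only [oneChar_apply, map_one, mul_one] at h2
    rw [← sum_reg_add_sing (p := p), Finset.sum_congr rfl (s₁ := singSet p G) (fun g hg => hAs g (mem_sing.1 hg)),
      Finset.sum_const, nsmul_eq_mul, mul_one] at h2
    linear_combination h2
  have hmθ : ∀ q, m (F.θ q) = m χ + 1 := fun q => by
    have e : ∀ ψ : IrrCharacter G, (m ψ : ℂ) * Nat.card G = ∑ g, A g * conj ((ψ : G → ℂ) g) := fun ψ => by
      rw [← hm, classInner_eq, mul_comm, mul_inv_cancel_left₀ hcard]
    have hsθ : ∑ g ∈ singSet p G, conj ((F.θ q : G → ℂ) g) = -∑ g ∈ regSet p G, conj ((F.θ q : G → ℂ) g) := by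
      have := sum_reg_add_sing (p := p) fun g : G => conj ((F.θ q : G → ℂ) g)
      rw [sum_conj_irr_eq_zero (hne q).2] at this
      linear_combination this
    have e1 := e (F.θ q)
    rw [← sum_reg_add_sing (p := p), Finset.sum_congr rfl (s₁ := singSet p G)
        (g := fun g => conj ((F.θ q : G → ℂ) g)) (fun g hg => by rw [hAs g (mem_sing.1 hg), one_mul]), hsθ,
      Finset.sum_congr rfl (s₁ := regSet p G) (g := fun g => A g * conj ((χ : G → ℂ) g) - A g) (fun g hg => by
        rw [hθ q g (mem_reg.1 hg), map_sub, map_one]; ring),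
      Finset.sum_congr rfl (s₁ := regSet p G) (f := fun g => conj ((F.θ q : G → ℂ) g))
        (g := fun g => conj ((χ : G → ℂ) g) - 1) (fun g hg => by rw [hθ q g (mem_reg.1 hg), map_sub, map_one]),
      Finset.sum_sub_distrib, Finset.sum_sub_distrib, hAreg, hRχ, Finset.sum_const, nsmul_eq_mul, mul_one] at e1
    have e2 := e χ
    rw [← sum_reg_add_sing (p := p), Finset.sum_congr rfl (s₁ := singSet p G) (g := fun _ => (-1 : ℂ)) (fun g hg => by
      rw [hAs g (mem_sing.1 hg), h.sing g (mem_sing.1 hg), map_neg, map_one, one_mul]), Finset.sum_const,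
      nsmul_eq_mul] at e2
    have h4 := card_reg_add_sing (G := G) (p := p)
    have : ((m (F.θ q) : ℕ) : ℂ) = ((m χ + 1 : ℕ) : ℂ) := by
      refine mul_right_cancel₀ hcard ?_
      push_cast
      linear_combination e1 - e2 + h4
    exact_mod_cast this
  have hθdeg : ∀ q, charDegree (F.θ q : G → ℂ) = p - 2 := fun q => by
    have h1 := hθ q 1 (by rw [orderOf_one]; exact hp.not_dvd_one)
    rw [h.apply_one', apply_one (isCharacter_of_irr (F.θ q).2)] at h1
    have : (charDegree (F.θ q : G → ℂ) : ℂ) = ((p - 2 : ℕ) : ℂ) := by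
      rw [h1, Nat.cast_sub hp.two_le, Nat.cast_ofNat]; ring
    exact_mod_cast this
  set S : Finset (IrrCharacter G) := insert χ (Finset.univ.image F.θ) with hS
  have hnotS : χ ∉ Finset.univ.image F.θ := fun hh => by
    obtain ⟨q, -, hq⟩ := Finset.mem_image.1 hh
    exact (hne q).1 hq
  have hdegA : ∑ ψ : IrrCharacter G, m ψ * charDegree (ψ : G → ℂ) = t * (p - 2) := by
    have h1 := congrFun hexp 1
    simp only [hA, one_mul, Finset.sum_apply, Pi.smul_apply, smul_eq_mul,
      apply_one (isCharacter_of_irr (Subtype.property _))] at h1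
    rw [h.deg, Nat.cast_sub hp.one_le, Nat.cast_one] at h1
    have h2 : ((2 * ∑ ψ : IrrCharacter G, m ψ * charDegree (ψ : G → ℂ) : ℕ) : ℂ) =
        (((p - 1) * (p - 2) : ℕ) : ℂ) := by
      push_cast [Nat.cast_sub hp.one_le, Nat.cast_sub hp.two_le]
      linear_combination -(2 : ℂ) * h1
    have h3 : 2 * ∑ ψ : IrrCharacter G, m ψ * charDegree (ψ : G → ℂ) = 2 * t * (p - 2) := by
      rw [ht, h2t]; exact_mod_cast h2
    rw [mul_assoc] at h3
    omega
  rw [← Finset.sum_sdiff (Finset.subset_univ S), hS, Finset.sum_insert hnotS,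
    Finset.sum_image (fun q _ q' _ e => F.inj e), Finset.sum_congr rfl (s₁ := (Finset.univ : Finset (D.Idx D.one)))
      (g := fun _ => m χ * (p - 2) + (p - 2)) (fun q _ => by rw [hmθ, hθdeg]; ring), Finset.sum_const,
    Finset.card_univ, D.card_Idx, ← ht, smul_eq_mul, h.deg, mul_add, ← hS] at hdegA
  have hmχ : m χ = 0 := (Nat.mul_eq_zero.1 (show m χ * (p - 1) = 0 by omega)).resolve_right (by omega)
  have hout : ∀ ψ ∈ Finset.univ \ S, m ψ = 0 := fun ψ hψ =>
    (Nat.mul_eq_zero.1 (Finset.sum_eq_zero_iff.1 (show ∑ ψ ∈ Finset.univ \ S, m ψ * charDegree (ψ : G → ℂ) = 0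
      by omega) ψ hψ)).resolve_right (charDegree_pos ψ.2).ne'
  show A g = _
  rw [congrFun hexp g, Finset.sum_apply, ← Finset.sum_sdiff (Finset.subset_univ S),
    Finset.sum_eq_zero (fun ψ hψ => by rw [hout ψ hψ]; simp), zero_add, hS, Finset.sum_insert hnotS,
    Finset.sum_image (fun q _ q' _ e => F.inj e)]
  simp only [Pi.smul_apply, hmθ, hmχ, zero_add, Nat.cast_zero, Nat.cast_one, zero_smul, one_smul, hθ _ g hg,
    Finset.sum_const, Finset.card_univ, D.card_Idx, nsmul_eq_mul, ← ht]

/-- The order of the group, for `p ≥ 7`. -/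
theorem Hyp.card_eq (h : Hyp D χ) (hp7 : 7 ≤ p) (hint : ∀ g : G, ∃ c : ℤ, (χ : G → ℂ) g = c)
    (hfaith : ∀ g : G, (χ : G → ℂ) g = (χ : G → ℂ) 1 → g = 1) :
    Nat.card G = p * ((p - 1) * (p - 2)) := by
  classical
  have hp := D.hp
  have hc := isCharacter_of_irr χ.2
  choose c hcv using hint
  have hc1 : c 1 = (p : ℤ) - 1 := by
    have h1 := (hcv 1).symm.trans h.apply_one'
    exact_mod_cast h1
  have hbound : ∀ g : G, -((p : ℤ) - 1) ≤ c g ∧ c g ≤ (p : ℤ) - 1 := fun g => by
    have h1 := norm_le hc g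
    rw [hcv, h.deg, Nat.cast_sub hp.one_le, Nat.cast_one, Complex.norm_intCast] at h1
    have h2 : |c g| ≤ (p : ℤ) - 1 := by exact_mod_cast h1
    exact abs_le.1 h2
  have hne : ∀ g : G, g ≠ 1 → c g ≠ (p : ℤ) - 1 := fun g hg e =>
    hg (hfaith g (by rw [hcv, e, h.apply_one']; push_cast; ring))
  have hid : ∀ g : G, ¬ p ∣ orderOf g → c g * ((p : ℤ) - 1 - c g) = (p : ℤ) - 1 - c (g * g) := fun g hg => by
    have h1 := h.alt_eq hg
    have h5 : 2 * ((D.U D.one).index : ℂ) = (p : ℂ) - 1 := by
      have : ((2 * (D.U D.one).index : ℕ) : ℂ) = ((p - 1 : ℕ) : ℂ) := by rw [h.two_mul_t]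
      rwa [Nat.cast_mul, Nat.cast_sub hp.one_le, Nat.cast_one, Nat.cast_ofNat] at this
    rw [hcv, hcv, div_eq_iff two_ne_zero] at h1
    apply Int.cast_injective (α := ℂ)
    push_cast
    linear_combination -h1 - ((c g : ℂ) - 1) * h5
  have hsmall : ∀ g : G, g ≠ 1 → ¬ p ∣ orderOf g → (c g = 0 ∧ g * g = 1) ∨
      g * g ≠ 1 ∧ 1 ≤ c g ∧ c g ≤ (p : ℤ) - 2 := by
    intro g hg hreg
    have h1 := hid g hreg
    have := hne g hg
    have := hbound g
    by_cases h2 : g * g = 1
    · left
      rw [h2, hc1, _root_.sub_self] at h1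
      rcases mul_eq_zero.1 h1 with e | e
      · exact ⟨e, h2⟩
      · omega
    · right
      have := hne _ h2
      have h3 := hbound (g * g)
      refine ⟨h2, ?_, by omega⟩
      by_contra h0
      have : c g * ((p : ℤ) - 1 - c g) ≤ 0 := mul_nonpos_of_nonpos_of_nonneg (by omega) (by omega)
      omega
  have hval : ∀ g : G, g ≠ 1 → ¬ p ∣ orderOf g → c g = 0 ∨ c g = 1 := by
    intro g hg hreg
    rcases hsmall g hg hreg with ⟨e, -⟩ | ⟨h2, h1, hle⟩
    · exact Or.inl e
    right
    have hreg2 : ¬ p ∣ orderOf (g * g) := fun hd => hreg (hd.trans (by rw [← sq]; exact orderOf_pow_dvd 2))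
    have hid' := hid g hreg
    have hc2 : 0 ≤ c (g * g) := by
      rcases hsmall _ h2 hreg2 with ⟨e, -⟩ | ⟨-, e, -⟩ <;> omega
    by_contra hne1
    rcases (show c g = (p : ℤ) - 2 ∨ c g ≤ (p : ℤ) - 3 by omega) with e | e
    · -- only one eigenvalue away from one
      have hc2' : c (g * g) = 1 := by rw [e] at hid'; linarith
      obtain ⟨lam, hlam, hl⟩ := exists_eigen hc g
      have hnorm : ∀ i, (lam i).re * (lam i).re + (lam i).im * (lam i).im = 1 := fun i => by
        have h3 : ‖lam i‖ = 1 := Complex.norm_eq_one_of_pow_eq_one (hlam i) (orderOf_pos g).ne'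
        have h4 := Complex.normSq_eq_norm_sq (lam i)
        rw [h3, Complex.normSq_apply] at h4
        linarith
      have key : ∀ i, 1 - (lam i ^ 2).re ≤ 4 * (1 - (lam i).re) := fun i => by
        have h3 := hnorm i
        have h4 : 0 ≤ (lam i).im * (lam i).im := mul_self_nonneg _
        have h6 : (lam i).re ≤ 1 := by nlinarith
        rw [sq, Complex.mul_re]
        nlinarith
      have hsum := Finset.sum_le_sum fun i (_ : i ∈ Finset.univ) => key i
      rw [← Finset.mul_sum, Finset.sum_sub_distrib, Finset.sum_sub_distrib, ← Complex.re_sum, ← Complex.re_sum,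
        Finset.sum_const, Finset.card_univ, Fintype.card_fin, nsmul_eq_mul, mul_one] at hsum
      have h5 := hl 1
      simp only [pow_one] at h5
      rw [← h5, ← hl 2, sq g, hcv, hcv, e, hc2', h.deg, Nat.cast_sub hp.one_le, Complex.intCast_re,
        Complex.intCast_re] at hsum
      push_cast at hsum
      have : (7 : ℝ) ≤ p := by exact_mod_cast hp7
      linarith
    · have h3 : 2 * ((p : ℤ) - 3) ≤ c g * ((p : ℤ) - 1 - c g) := by
        have : 0 ≤ (c g - 2) * ((p : ℤ) - 3 - c g) := mul_nonneg (by omega) (by omega)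
        linarith
      omega
  -- the sums
  obtain ⟨hR, hs⟩ := h.card_sing
  have hsq : ∑ g : G, (χ : G → ℂ) g * conj ((χ : G → ℂ) g) = Nat.card G := by
    have h1 := classInner_self χ.2
    rw [classInner_eq] at h1
    have := congrArg (fun z => (Nat.card G : ℂ) * z) h1
    simpa only [mul_inv_cancel_left₀ (Nat.cast_ne_zero.2 Nat.card_pos.ne' : (Nat.card G : ℂ) ≠ 0), mul_one] using this
  obtain ⟨-, -, hχ1, -, -⟩ := h.family
  have h0 := sum_conj_irr_eq_zero hχ1
  have h1 : (Nat.card G : ℂ) = ∑ g : G, ((χ : G → ℂ) g * conj ((χ : G → ℂ) g) - conj ((χ : G → ℂ) g)) := by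
    rw [Finset.sum_sub_distrib, hsq, h0, sub_zero]
  rw [← sum_reg_add_sing (p := p), Finset.sum_congr rfl (s₁ := singSet p G) (g := fun _ => (2 : ℂ)) (fun g hg => by
      rw [h.sing g (mem_sing.1 hg), map_neg, map_one]; norm_num),
    Finset.sum_eq_single_of_mem (1 : G) (mem_reg.2 (by rw [orderOf_one]; exact hp.not_dvd_one)) (fun g hg hg1 => by
      rw [hcv, map_intCast]
      rcases hval g hg1 (mem_reg.1 hg) with e | e <;> rw [e] <;> norm_num),
    Finset.sum_const, nsmul_eq_mul, h.apply_one', map_sub, map_natCast, map_one] at h1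
  have h5 : 2 * ((D.U D.one).index : ℂ) = (p : ℂ) - 1 := by
    have : ((2 * (D.U D.one).index : ℕ) : ℂ) = ((p - 1 : ℕ) : ℂ) := by rw [h.two_mul_t]
    rwa [Nat.cast_mul, Nat.cast_sub hp.one_le, Nat.cast_one, Nat.cast_ofNat] at this
  have : (Nat.card G : ℂ) = ((p * ((p - 1) * (p - 2)) : ℕ) : ℂ) := by
    push_cast [Nat.cast_sub hp.one_le, Nat.cast_sub hp.two_le]
    linear_combination (p : ℂ) * h1 + 2 * hs + (Nat.card G : ℂ) * h5
  exact_mod_cast this

end CfsgLib.DegPred
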