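import Mathlib
import Cfsg.Agent.DegPred.Main
import Cfsg.Agent.WielandtTwoP.Main
import Cfsg.Agent.BrauerInd.Galois
import Cfsg.Agent.H29.Dickson.GroupIso

/-!
Primitive groups of degree `2 p`, not doubly transitive, with a Sylow normaliser of order `2 p`.
-/

set_option autoImplicit false
set_option linter.style.haveILetI false
set_option linter.unusedSectionVars false

namespace CfsgLib.DegPred

open Cfsg CfsgLib.CharBasics CfsgLib.DefectOne CfsgLib.PermChar CfsgLib.WielandtTwoP MulAction
open scoped ComplexConjugate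

universe u

variable {α : Type u} [Fintype α] [DecidableEq α] {p : ℕ} [Fact p.Prime]

/-- A normal subgroup other than the trivial one contains the Sylow subgroup. -/
theorem sylow_le_normal (hα : Fintype.card α = 2 * p) (G : Subgroup (Equiv.Perm α)) [IsPreprimitive G α]
    (hsq : ¬ p ^ 2 ∣ Nat.card G) (P : Sylow p G) (hP : Nat.card P = p) (N : Subgroup G) [N.Normal]
    (hN : N ≠ ⊥) : (P : Subgroup G) ≤ N ∧ p ∣ Nat.card N := by
  haveI : Fintype G := Fintype.ofFinite G
  have hp : p.Prime := Fact.out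
  obtain ⟨a⟩ : Nonempty α := Fintype.card_pos_iff.1 (by have := hp.two_le; omega)
  have hdvd : p ∣ Nat.card N := (dvd_mul_left p 2).trans (hα ▸ card_dvd_of_normal (G := G) a N hN)
  refine ⟨?_, hdvd⟩
  haveI : Fintype N := Fintype.ofFinite N
  obtain ⟨x, hx⟩ := exists_prime_orderOf_dvd_card' p hdvd
  obtain ⟨Q, hQ⟩ := (IsPGroup.of_card (G := Subgroup.zpowers (x : G)) (n := 1)
    (by rw [Nat.card_zpowers, Subgroup.orderOf_coe, hx, pow_one])).exists_le_sylow
  have hQc : Nat.card Q = p := (Nat.card_congr (Sylow.equiv Q P).toEquiv).trans hP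
  have hQN : (Q : Subgroup G) ≤ N := by
    have := Subgroup.eq_of_le_of_card_ge hQ (le_of_eq (by
      rw [show Nat.card (Q : Subgroup G) = p from hQc, Nat.card_zpowers, Subgroup.orderOf_coe, hx]))
    rw [← this]
    exact Subgroup.zpowers_le.2 x.2
  obtain ⟨g, hg⟩ := exists_smul_eq G Q P
  intro y hy
  rw [← hg, Sylow.coe_subgroup_smul] at hy
  obtain ⟨z, hz, rfl⟩ := hy
  exact (inferInstance : N.Normal).conj_mem z (hQN hz) g

/-- The Sylow normaliser does not centralise the Sylow subgroup. -/
theorem normalizer_not_le (hα : Fintype.card α = 2 * p) (G : Subgroup (Equiv.Perm α)) [IsPreprimitive G α]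
    (hsq : ¬ p ^ 2 ∣ Nat.card G) (P : Sylow p G) (hP : Nat.card P = p) :
    ¬ Subgroup.normalizer ((P : Subgroup G) : Set G) ≤ Subgroup.centralizer ((P : Subgroup G) : Set G) := by
  haveI : Fintype G := Fintype.ofFinite G
  intro hle
  have hp : p.Prime := Fact.out
  haveI : IsCyclic (P : Subgroup G) := isCyclic_of_prime_card hP
  haveI : IsMulCommutative (P : Subgroup G) := IsCyclic.commutative
  have hc := MonoidHom.ker_transferSylow_isComplement' P hle
  set M := (MonoidHom.transferSylow P hle).ker with hM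
  haveI : M.Normal := MonoidHom.normal_ker _
  have hMcard : Nat.card M * p = Nat.card G := by rw [← hP]; exact hc.card_mul
  by_cases hb : M = ⊥
  · obtain ⟨a⟩ : Nonempty α := Fintype.card_pos_iff.1 (by have := hp.two_le; omega)
    have h1 := (stabilizer G a).index_dvd_card
    rw [index_stabilizer_of_transitive G a, Nat.card_eq_fintype_card (α := α), hα, ← hMcard, hb, Subgroup.card_bot,
      one_mul] at h1
    have := Nat.le_of_dvd hp.pos h1
    have := hp.pos
    omega
  · exact hsq (by rw [sq, ← hMcard]; exact Nat.mul_dvd_mul_right (sylow_le_normal hα G hsq P hP M hb).2 p)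

/-- With a Sylow normaliser of order `2 p` the group is simple. -/
theorem isSimpleGroup (hα : Fintype.card α = 2 * p) (G : Subgroup (Equiv.Perm α)) [IsPreprimitive G α]
    (hsq : ¬ p ^ 2 ∣ Nat.card G) (P : Sylow p G) (hP : Nat.card P = p)
    (hN : Nat.card (Subgroup.normalizer ((P : Subgroup G) : Set G)) = 2 * p) : IsSimpleGroup G := by
  classical
  haveI : Fintype G := Fintype.ofFinite G
  have hp : p.Prime := Fact.out
  haveI : Nontrivial G := by
    refine Finite.one_lt_card_iff_nontrivial.1 (lt_of_lt_of_le ?_ (Nat.le_of_dvd Nat.card_pos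
      (Subgroup.card_subgroup_dvd_card (Subgroup.normalizer ((P : Subgroup G) : Set G)))))
    rw [hN]; have := hp.two_le; omega
  refine ⟨fun N hNn => ?_⟩
  by_cases hbot : N = ⊥
  · exact Or.inl hbot
  right
  haveI := hNn
  obtain ⟨hPN, hdvd⟩ := sylow_le_normal hα G hsq P hP N hbot
  set NP := Subgroup.normalizer ((P : Subgroup G) : Set G) with hNP
  by_cases hle : NP ≤ N
  · have h1 := Sylow.normalizer_sup_eq_top (P.subtype hPN)
    rw [Sylow.coe_subtype, Subgroup.map_subgroupOf_eq_of_le hPN] at h1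
    exact top_le_iff.1 (h1 ▸ sup_le hle le_rfl)
  exfalso
  have hint : NP ⊓ N = (P : Subgroup G) := by
    refine (Subgroup.eq_of_le_of_card_ge (le_inf Subgroup.le_normalizer hPN) ?_).symm
    rw [show Nat.card (P : Subgroup G) = p from hP]
    obtain ⟨c, hc⟩ : Nat.card (NP ⊓ N : Subgroup G) ∣ 2 * p := hN ▸ Subgroup.card_dvd_of_le inf_le_left
    rcases Nat.lt_or_ge c 2 with hc2 | hc2
    · exfalso
      have hc1 : c = 1 := by
        rcases Nat.eq_zero_or_pos c with h0 | h0
        · rw [h0, mul_zero] at hc; have := hp.pos; omega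
        · omega
      have h2 : NP ⊓ N = NP := Subgroup.eq_of_le_of_card_ge inf_le_left (by rw [hN, hc, hc1, mul_one])
      exact hle (h2 ▸ inf_le_right)
    · refine Nat.le_of_mul_le_mul_right ?_ two_pos
      rw [mul_comm p 2, hc]
      exact Nat.mul_le_mul_left _ hc2
  set Q := P.subtype hPN with hQ
  have hQc : Nat.card Q = p := (Nat.card_congr (Subgroup.subgroupOfEquivOfLe hPN).toEquiv).trans hP
  haveI : IsCyclic (Q : Subgroup N) := isCyclic_of_prime_card hQc
  haveI : IsMulCommutative (Q : Subgroup N) := IsCyclic.commutative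
  have hcen : Subgroup.normalizer ((Q : Subgroup N) : Set N) ≤ Subgroup.centralizer ((Q : Subgroup N) : Set N) := by
    intro g hg
    have hgP : (g : G) ∈ (P : Subgroup G) := by
      rw [← hint]
      refine ⟨?_, g.2⟩
      show (g : G) ∈ NP
      rw [hNP, Subgroup.mem_normalizer_iff]
      intro x
      constructor
      · intro hx
        exact (Subgroup.mem_normalizer_iff.1 hg ⟨x, hPN hx⟩).1 hx
      · intro hx
        have hxN : x ∈ N := by simpa [mul_assoc] using hNn.conj_mem _ (hPN hx) (g : G)⁻¹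
        exact (Subgroup.mem_normalizer_iff.1 hg ⟨x, hxN⟩).2 hx
    rw [Subgroup.mem_centralizer_iff]
    intro y hy
    exact congrArg Subtype.val (mul_comm' (⟨y, hy⟩ : (Q : Subgroup N)) ⟨g, hgP⟩)
  have hc := MonoidHom.ker_transferSylow_isComplement' Q hcen
  set M := (MonoidHom.transferSylow Q hcen).ker with hM
  haveI : M.Normal := MonoidHom.normal_ker _
  have hMcard : Nat.card M * p = Nat.card N := by rw [← hQc]; exact hc.card_mul
  have hMp : ¬ p ∣ Nat.card M := fun hd => hsq ((by rw [sq, ← hMcard]; exact Nat.mul_dvd_mul_right hd p :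
    p ^ 2 ∣ Nat.card N).trans (Subgroup.card_subgroup_dvd_card N))
  have hmem : ∀ x : N, x ∈ M ↔ ¬ p ∣ orderOf x := by
    refine fun x => ⟨fun hx hd => hMp (hd.trans (Subgroup.orderOf_dvd_natCard M hx)), fun hx => ?_⟩
    have h1 : M.index = p := by
      have := M.card_mul_index
      rw [← hMcard] at this
      exact Nat.eq_of_mul_eq_mul_left Nat.card_pos this
    have h2 : orderOf (QuotientGroup.mk' M x) ∣ p := h1 ▸ orderOf_dvd_natCard _
    rcases hp.eq_one_or_self_of_dvd _ h2 with e | e
    · exact (QuotientGroup.eq_one_iff x).1 (orderOf_eq_one_iff.1 e)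
    · exact absurd (e ▸ orderOf_map_dvd _ x) hx
  haveI hMn : (M.map N.subtype).Normal := ⟨fun x hx g => by
    obtain ⟨m, hm, rfl⟩ := hx
    refine ⟨⟨g * (m : G) * g⁻¹, hNn.conj_mem _ m.2 g⟩, ?_, rfl⟩
    refine (hmem _).2 ?_
    rw [← Subgroup.orderOf_coe]
    show ¬ p ∣ orderOf (MulAut.conj g (m : G))
    rw [MulEquiv.orderOf_eq, Subgroup.orderOf_coe]
    exact (hmem m).1 hm⟩
  by_cases hb : M.map N.subtype = ⊥
  · have h1 : Nat.card M = 1 := by
      rw [← Subgroup.card_map_of_injective (f := N.subtype) N.subtype_injective, hb, Subgroup.card_bot]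
    rw [h1, one_mul] at hMcard
    obtain ⟨a⟩ : Nonempty α := Fintype.card_pos_iff.1 (by have := hp.two_le; omega)
    have h3 := card_dvd_of_normal (G := G) a N hbot
    rw [hα, ← hMcard] at h3
    have h2 := Nat.le_of_dvd hp.pos h3
    have := hp.pos
    omega
  · refine hMp ?_
    rw [← Subgroup.card_map_of_injective (f := N.subtype) N.subtype_injective]
    exact (sylow_le_normal hα G hsq P hP _ hb).2

/-- The constituent of degree `p - 1`. -/
theorem exists_hyp (hp5 : 5 ≤ p) (hα : Fintype.card α = 2 * p) (G : Subgroup (Equiv.Perm α)) [Fintype G]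
    [IsPreprimitive G α] (h2 : ¬ IsMultiplyPretransitive G α 2) (hfpf : FpfData G p) (P : Sylow p G)
    (hN : Nat.card (Subgroup.normalizer ((P : Subgroup G) : Set G)) = 2 * p) :
    ∃ (D : Data G p) (χ : IrrCharacter G), Hyp D χ ∧ (∀ g : G, ∃ c : ℤ, (χ : G → ℂ) g = c) ∧
      ∀ g : G, (χ : G → ℂ) g = (χ : G → ℂ) 1 → g = 1 := by
  classical
  have hp : p.Prime := Fact.out
  obtain ⟨a₀⟩ : Nonempty α := Fintype.card_pos_iff.1 (by omega)
  haveI : Nonempty α := ⟨a₀⟩
  haveI : Fintype (IrrCharacter G) := Fintype.ofFinite _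
  have hfac : (Nat.card G).factorization p = 1 := by
    have a1 := (hp.pow_dvd_iff_le_factorization Nat.card_pos.ne').not.1 hfpf.hsq
    have a2 := (hp.pow_dvd_iff_le_factorization (k := 1) Nat.card_pos.ne').1 (by rw [pow_one]; exact hfpf.hdvd)
    omega
  have hP : Nat.card P = p := by rw [P.card_eq_multiplicity, hfac, pow_one]
  obtain ⟨D, hD⟩ := exists_data P hP
  have hH : Nat.card D.H = 2 := by
    have h1 := D.card_normalizer
    rw [hD] at h1
    rw [show Nat.card (Subgroup.normalizer ((P : Subgroup G) : Set G)) = 2 * p from hN, mul_comm 2 p] at h1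
    exact (Nat.eq_of_mul_eq_mul_left hp.pos h1).symm
  have hV : Nat.card D.V = 1 := by
    rcases Nat.prime_two.eq_one_or_self_of_dvd _ (hH ▸ Subgroup.card_subgroup_dvd_card D.V) with e | e
    · exact e
    · exfalso
      refine normalizer_not_le hα G hfpf.hsq P hP ?_
      rw [← hD]
      refine Subgroup.relIndex_eq_one.1 (D.relIndex_eq.trans ?_)
      have := D.V.card_mul_index
      rw [e, hH] at this
      omega
  have hS : Setup D (Ω := α) := by
    refine ⟨by rw [hV]; exact one_dvd 2, hα, fun g hg => ?_, fun χ h1 h2 => two_le_deg hα χ h1 h2, by omega⟩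
    obtain ⟨m, hm⟩ := hg
    have hm0 : m ≠ 0 := fun e => (orderOf_pos g).ne' (by rw [hm, e, mul_zero])
    have hgo : orderOf (g ^ m) = p := by
      rw [orderOf_pow' _ hm0, hm, Nat.gcd_mul_left_left, Nat.mul_div_cancel _ (Nat.pos_of_ne_zero hm0)]
    simp only [piChar]
    rw [Nat.cast_eq_zero, Nat.card_eq_zero]
    exact Or.inl ⟨fun ω => hfpf.hfpf _ hgo ω.1 (smul_of_pow g ω.2 m)⟩
  obtain ⟨χ₀, hχ₀, hm₀, hcase⟩ := decompose D hS
  rcases hcase with ⟨hout, -⟩ | ⟨s, h1s, h0s, hsm, hout, hd₀, hshape⟩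
  · refine absurd (two_transitive_of_rank_two fun a => ?_) h2
    rw [rank_eq a {oneChar, χ₀} (fun χ hχ => by
      simp only [Finset.mem_insert, Finset.mem_singleton] at hχ
      rcases hχ with rfl | rfl
      · exact mlt_one
      · exact hm₀) (fun χ hχ => by
      simp only [Finset.mem_insert, Finset.mem_singleton, not_or] at hχ
      exact hout χ hχ.1 hχ.2), Finset.card_pair (Ne.symm hχ₀)]
  rcases hshape with ⟨χ₁, rfl, hd₁⟩ | ⟨φ, F, hε, hidx, hsF, hdeg⟩
  swap
  · exfalso
    by_cases h3 : 3 ≤ (D.U φ).index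
    · exact no_small_family D hS F hε h3 1 (hdeg 1)
    · exact no_rank_four D hS χ₀ hχ₀ hm₀ s h1s h0s hsm hout hd₀ F hε (by omega) hsF hdeg
  rw [Finset.mem_singleton] at h1s h0s
  have hm₁ : mlt α χ₁ = 1 := hsm _ (Finset.mem_singleton_self _)
  have hT : ∀ χ ∈ ({oneChar, χ₁, χ₀} : Finset (IrrCharacter G)), mlt α χ = 1 := fun χ hχ => by
    simp only [Finset.mem_insert, Finset.mem_singleton] at hχ
    rcases hχ with rfl | rfl | rfl
    · exact mlt_one
    · exact hm₁
    · exact hm₀
  have hTout : ∀ χ, χ ∉ ({oneChar, χ₁, χ₀} : Finset (IrrCharacter G)) → mlt α χ = 0 := fun χ hχ => by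
    simp only [Finset.mem_insert, Finset.mem_singleton, not_or] at hχ
    exact hout χ hχ.1 hχ.2.2 (by simpa using hχ.2.1)
  obtain ⟨M, hM⟩ := CfsgLib.Blocks.exists_modular hp
  have hsing : ∀ g : G, p ∣ orderOf g → (χ₁ : G → ℂ) g = -1 := by
    intro g hg
    have e := congrFun (eq_of_mult _ hT hTout) g
    rw [Finset.sum_insert (by simp [h1s, Ne.symm hχ₀]), Finset.sum_pair (Ne.symm h0s)] at e
    have h0 : (χ₀ : G → ℂ) g = 0 := D.vanish_of_not_blk (fun φ hφ => D.not_dvd_deg_blk hM hφ (by rw [hd₀])) hg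
    rw [hS.hzero g hg] at e
    simp only [Pi.add_apply, oneChar_apply, h0] at e
    linear_combination -e
  refine ⟨D, χ₁, ⟨hV, hH, hp5, hd₁, hsing⟩, fun g => ?_, fun g hg => ?_⟩
  · obtain ⟨q, hq⟩ := exists_rat_of_pow_invariant (isCharacter_of_irr χ₁.2) g fun j hj => by
      let ψ : IrrCharacter G := ⟨fun g => (χ₁ : G → ℂ) (g ^ j), CfsgLib.BrauerInd.isIrr_pow hj χ₁.2⟩
      have hmψ : mlt α ψ = 1 := by
        have h1 := inner_pow (Ω := α) hj (χ₁ : G → ℂ)
        rw [show (fun g => (χ₁ : G → ℂ) (g ^ j)) = (ψ : G → ℂ) from rfl, mlt_spec, mlt_spec, hm₁] at h1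
        exact_mod_cast h1
      have hdψ : charDegree (ψ : G → ℂ) = p - 1 := by
        rw [← hd₁]
        unfold charDegree
        show ⌊((χ₁ : G → ℂ) (1 ^ j)).re⌋₊ = _
        rw [one_pow]
      have hψ : ψ = χ₁ := by
        by_contra hne
        have hmem : ψ ∈ ({oneChar, χ₁, χ₀} : Finset (IrrCharacter G)) := by
          by_contra hc
          rw [hTout ψ hc] at hmψ
          exact zero_ne_one hmψ
        simp only [Finset.mem_insert, Finset.mem_singleton] at hmem
        rcases hmem with e | e | e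
        · rw [e, BrauerFew.deg_oneChar] at hdψ; omega
        · exact hne e
        · rw [e, hd₀] at hdψ; omega
      exact congrFun (congrArg Subtype.val hψ) g
    obtain ⟨c, hc⟩ := exists_int_of_rat hq (isIntegral_apply (isCharacter_of_irr χ₁.2) g)
    exact ⟨c, by rw [hq, hc]; push_cast; rfl⟩
  · by_contra hg1
    haveI := charKer_normal (isCharacter_of_irr χ₁.2)
    obtain ⟨hle, -⟩ := sylow_le_normal hα G hfpf.hsq P hP (charKer (χ₁ : G → ℂ) (isCharacter_of_irr χ₁.2))
      (fun e => hg1 (by rw [← Subgroup.mem_bot, ← e]; exact hg))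
    have h1 : (χ₁ : G → ℂ) D.x = (χ₁ : G → ℂ) 1 :=
      (mem_charKer (isCharacter_of_irr χ₁.2) D.x).1 (hle (hD ▸ Subgroup.mem_zpowers D.x))
    rw [hsing _ (dvd_of_eq D.hx.symm), apply_one (isCharacter_of_irr χ₁.2), hd₁, Nat.cast_sub hp.one_le,
      Nat.cast_one] at h1
    exact hp.ne_zero (Nat.cast_eq_zero.1 (show (p : ℂ) = 0 by linear_combination -h1))

section Ten

variable (G : Subgroup (Equiv.Perm α))

/-- The neighbours in the orbital graph of valency three. -/
noncomputable def nbrs (x : α) : Finset α := by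
  classical
  exact Finset.univ.filter fun y => y ≠ x ∧ Nat.card (orbit (stabilizer G x) y) = 3

theorem mem_nbrs {x y : α} : y ∈ nbrs G x ↔ y ≠ x ∧ Nat.card (orbit (stabilizer G x) y) = 3 := by
  unfold nbrs
  rw [Finset.mem_filter]
  exact ⟨fun h => h.2, fun h => ⟨Finset.mem_univ _, h⟩⟩

theorem card_orbit_smul (g : G) (x y : α) :
    Nat.card (orbit (stabilizer G (g • x)) (g • y)) = Nat.card (orbit (stabilizer G x) y) := by
  have himg : orbit (stabilizer G (g • x)) (g • y) = (fun u => g • u) '' orbit (stabilizer G x) y := by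
    ext u
    constructor
    · rintro ⟨k, rfl⟩
      refine ⟨g⁻¹ • ((k : G) • g • y), ⟨⟨g⁻¹ * k * g, ?_⟩, ?_⟩, smul_inv_smul g _⟩
      · rw [mem_stabilizer_iff, mul_smul, mul_smul, k.2, inv_smul_smul]
      · show (g⁻¹ * (k : G) * g) • y = _
        rw [mul_smul, mul_smul]
    · rintro ⟨-, ⟨k, rfl⟩, rfl⟩
      refine ⟨⟨g * k * g⁻¹, ?_⟩, ?_⟩
      · rw [mem_stabilizer_iff, mul_smul, mul_smul, inv_smul_smul, k.2]
      · show (g * (k : G) * g⁻¹) • g • y = g • (k : G) • y
        rw [mul_smul, mul_smul, inv_smul_smul]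
  rw [himg]
  exact Nat.card_image_of_injective (MulAction.injective g) _

theorem smul_mem_nbrs (g : G) {x y : α} (h : y ∈ nbrs G x) : g • y ∈ nbrs G (g • x) := by
  rw [mem_nbrs] at h ⊢
  exact ⟨fun e => h.1 (smul_left_cancel g e), by rw [card_orbit_smul]; exact h.2⟩

variable [IsPretransitive G α]

theorem card_orbit_comm (x y : α) :
    Nat.card (orbit (stabilizer G x) y) = Nat.card (orbit (stabilizer G y) x) := by
  classical
  haveI : Fintype G := Fintype.ofFinite G
  have key : ∀ x y : α, Nat.card (orbit (stabilizer G x) y) * Nat.card {g : G // g • x = x ∧ g • y = y} =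
      Nat.card (stabilizer G x) := by
    intro x y
    have h1 := MulAction.index_stabilizer (stabilizer G x) y
    have h2 := Subgroup.card_mul_index (stabilizer (stabilizer G x) y)
    rw [h1, ← Nat.card_coe_set_eq] at h2
    rw [← h2, mul_comm]
    congr 1
    exact Nat.card_congr
      ⟨fun g => ⟨⟨g.1, g.2.1⟩, g.2.2⟩, fun g => ⟨g.1.1, g.1.2, g.2⟩, fun g => rfl, fun g => rfl⟩
  have h1 := key x y
  have h2 := key y x
  have h3 : Nat.card (stabilizer G x) = Nat.card (stabilizer G y) := by
    have hx := Subgroup.card_mul_index (stabilizer G x)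
    have hy := Subgroup.card_mul_index (stabilizer G y)
    rw [index_stabilizer_of_transitive] at hx hy
    exact Nat.eq_of_mul_eq_mul_right (Nat.card_pos_iff.2 ⟨⟨x⟩, inferInstance⟩) (hx.trans hy.symm)
  have h4 : Nat.card {g : G // g • x = x ∧ g • y = y} = Nat.card {g : G // g • y = y ∧ g • x = x} :=
    Nat.card_congr (Equiv.subtypeEquivRight fun _ => and_comm)
  rw [h4, h3, ← h2] at h1
  haveI : Nonempty {g : G // g • y = y ∧ g • x = x} := ⟨⟨1, one_smul _ _, one_smul _ _⟩⟩
  exact Nat.eq_of_mul_eq_mul_right Nat.card_pos h1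

theorem mem_nbrs_comm {x y : α} : y ∈ nbrs G x ↔ x ∈ nbrs G y := by
  rw [mem_nbrs, mem_nbrs, card_orbit_comm G x y, ne_comm]

end Ten

/-- The case of degree ten: the stabiliser has order six. -/
theorem card_stab_ten (hα : Fintype.card α = 10) (G : Subgroup (Equiv.Perm α)) [IsPreprimitive G α] (a : α)
    (hrank : Nat.card (orbitRel.Quotient (stabilizer G a) α) = 3)
    (hsub : ∀ b : α, b ≠ a → Nat.card (orbit (stabilizer G a) b) = 3 ∨ Nat.card (orbit (stabilizer G a) b) = 6) :
    6 ∣ Nat.card (stabilizer G a) ∧ Nat.card (stabilizer G a) ∣ 48 := by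
  classical
  haveI : Fintype G := Fintype.ofFinite G
  set S := stabilizer G a with hS
  -- the three orbits
  let π : α → orbitRel.Quotient S α := Quotient.mk _
  have horb : ∀ u v : α, π u = π v ↔ u ∈ orbit S v := fun u v => Quotient.eq''.trans orbitRel_apply
  have hsingle : ∀ u, π u = π a → u = a := fun u hu => by
    obtain ⟨k, hk⟩ := (horb u a).1 hu
    exact hk.symm.trans k.2
  obtain ⟨b, hb⟩ : ∃ b, b ≠ a := Fintype.exists_ne_of_one_lt_card (by omega) a
  have hsize : ∀ v : α, Nat.card (orbit S v) = (Finset.univ.filter fun u => π u = π v).card := fun v => by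
    rw [Nat.card_eq_fintype_card, Fintype.card_of_subtype (Finset.univ.filter fun u => π u = π v) fun u => by
      simp [horb]]
  have hb' : π b ≠ π a := fun e => hb (hsingle b e)
  have hA1 : (Finset.univ.filter fun u => π u = π a).card = 1 := by
    rw [Finset.card_eq_one]
    exact ⟨a, Finset.ext fun u => by simpa using ⟨hsingle u, fun e => by rw [e]⟩⟩
  obtain ⟨c, hca, hcb⟩ : ∃ c, π c ≠ π a ∧ π c ≠ π b := by
    by_contra hcon
    push Not at hcon
    have hle : (Finset.univ : Finset α) ⊆
        (Finset.univ.filter fun u => π u = π a) ∪ Finset.univ.filter fun u => π u = π b := fun u _ => by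
      by_cases e : π u = π a
      · simp [e]
      · simp [hcon u e]
    have h1 := (Finset.card_le_card hle).trans (Finset.card_union_le _ _)
    rw [Finset.card_univ, hα, hA1, ← hsize] at h1
    rcases hsub b hb with e | e <;> omega
  haveI : Fintype (orbitRel.Quotient S α) := Fintype.ofFinite _
  have hthree : ∀ q, q = π a ∨ q = π b ∨ q = π c := by
    have h1 : ({π a, π b, π c} : Finset (orbitRel.Quotient S α)) = Finset.univ := by
      apply Finset.eq_univ_of_card
      rw [Finset.card_insert_of_notMem (by simp [Ne.symm hb', Ne.symm hca]), Finset.card_pair (Ne.symm hcb),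
        ← Nat.card_eq_fintype_card, hrank]
    intro q
    have := h1 ▸ Finset.mem_univ q
    simpa using this
  have hc : c ≠ a := fun e => hca (by rw [e])
  have htot : Nat.card (orbit S b) + Nat.card (orbit S c) = 9 := by
    have h1 : (Finset.univ : Finset α) = ((Finset.univ.filter fun u => π u = π a) ∪
        (Finset.univ.filter fun u => π u = π b)) ∪ Finset.univ.filter fun u => π u = π c := by
      ext u
      rcases hthree (π u) with e | e | e <;> simp [e]
    have h2 := congrArg Finset.card h1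
    rw [Finset.card_univ, hα, Finset.card_union_of_disjoint ?_, Finset.card_union_of_disjoint ?_, hA1, ← hsize,
      ← hsize] at h2
    · omega
    · exact Finset.disjoint_filter.2 fun u _ e1 e2 => hb' (e2.symm.trans e1)
    · rw [Finset.disjoint_union_left]
      exact ⟨Finset.disjoint_filter.2 fun u _ e1 e2 => hca (e2.symm.trans e1),
        Finset.disjoint_filter.2 fun u _ e1 e2 => hcb (e2.symm.trans e1)⟩
  -- name the orbits
  obtain ⟨b₃, c₆, h3, h6, hb₃, hc₆, hall⟩ : ∃ b₃ c₆, Nat.card (orbit S b₃) = 3 ∧ Nat.card (orbit S c₆) = 6 ∧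
      b₃ ≠ a ∧ c₆ ≠ a ∧ ∀ u, u ≠ a → u ∈ orbit S b₃ ∨ u ∈ orbit S c₆ := by
    have hu : ∀ u, u ≠ a → u ∈ orbit S b ∨ u ∈ orbit S c := fun u hu => by
      rcases hthree (π u) with e | e | e
      · exact absurd (hsingle u e) hu
      · exact Or.inl ((horb u b).1 e)
      · exact Or.inr ((horb u c).1 e)
    rcases hsub b hb with e | e <;> rcases hsub c hc with e' | e' <;> try omega
    · exact ⟨b, c, e, e', hb, hc, hu⟩
    · exact ⟨c, b, e', e, hc, hb, fun u h => (hu u h).symm⟩
  refine ⟨?_, ?_⟩
  · have hd : ∀ v : α, Nat.card (orbit S v) ∣ Nat.card S := fun v => by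
      have h1 := Subgroup.index_dvd_card (stabilizer S v)
      rwa [MulAction.index_stabilizer, ← Nat.card_coe_set_eq] at h1
    exact h6 ▸ hd c₆
  have hnb : ∀ u, u ∈ nbrs G a ↔ u ∈ orbit S b₃ := by
    intro u
    rw [mem_nbrs]
    constructor
    · rintro ⟨hu, hu3⟩
      rcases hall u hu with h | h
      · exact h
      · rw [← hS, orbit_eq_iff.2 h] at hu3
        omega
    · intro h
      refine ⟨fun e => ?_, by rw [← hS, orbit_eq_iff.2 h]; exact h3⟩
      subst e
      obtain ⟨k, hk⟩ := h
      exact hb₃ (by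
        have := congrArg (fun v => (k⁻¹ : S) • v) hk
        simp only [inv_smul_smul] at this
        rw [this]
        exact (k⁻¹).2)
  have hn3 : ∀ x : α, (nbrs G x).card = 3 := by
    intro x
    have ha : (nbrs G a).card = 3 := by
      rw [← h3, Nat.card_eq_fintype_card, Fintype.card_of_subtype (nbrs G a) hnb]
    obtain ⟨g, rfl⟩ := exists_smul_eq G a x
    rw [← ha]
    refine Finset.card_bij' (fun u _ => g⁻¹ • u) (fun u _ => g • u) (fun u hu => ?_) (fun u hu => smul_mem_nbrs G g hu)
      (fun u _ => smul_inv_smul g u) fun u _ => inv_smul_smul g u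
    have := smul_mem_nbrs G g⁻¹ hu
    rwa [inv_smul_smul] at this
  -- the second neighbourhood leaves the first one
  obtain ⟨y, b₀, hb₀, hy, hya, hyn⟩ : ∃ y b₀, b₀ ∈ nbrs G a ∧ y ∈ nbrs G b₀ ∧ y ≠ a ∧ y ∉ nbrs G a := by
    by_contra hcon
    push Not at hcon
    set B := insert a (nbrs G a) with hB
    have hBc : B.card = 4 := by rw [hB, Finset.card_insert_of_notMem (by simp [mem_nbrs]), hn3]
    let T : Subgroup G :=
      { carrier := {h | ∀ u, u ∈ B ↔ h • u ∈ B}
        one_mem' := fun u => by rw [one_smul]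
        mul_mem' := fun {h k} hh hk u => by rw [mul_smul, ← hh, ← hk]
        inv_mem' := fun {h} hh u => by
          have := hh (h⁻¹ • u)
          rwa [smul_inv_smul, iff_comm] at this }
    have hof : ∀ h : G, (∀ u ∈ B, h • u ∈ B) → h ∈ T := by
      intro h hh u
      refine ⟨hh u, fun hu => ?_⟩
      have h1 : B.image (fun v => h • v) = B := Finset.eq_of_subset_of_card_le
        (Finset.image_subset_iff.2 hh) (by rw [Finset.card_image_of_injective _ (MulAction.injective h)])
      rw [← h1, Finset.mem_image] at hu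
      obtain ⟨v, hv, hvu⟩ := hu
      rwa [← smul_left_cancel h hvu]
    have hST : S ≤ T := fun h hh => hof h fun u hu => by
      rcases Finset.mem_insert.1 hu with rfl | hu
      · rw [mem_stabilizer_iff.1 hh]; exact Finset.mem_insert_self _ _
      · have := smul_mem_nbrs G h hu
        rw [mem_stabilizer_iff.1 hh] at this
        exact Finset.mem_insert_of_mem this
    obtain ⟨b₁, hb₁⟩ : (nbrs G a).Nonempty := Finset.card_pos.1 (by rw [hn3]; norm_num)
    obtain ⟨g, hg⟩ := exists_smul_eq G a b₁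
    have hgT : g ∈ T := hof g fun u hu => by
      rcases Finset.mem_insert.1 hu with rfl | hu
      · rw [hg]; exact Finset.mem_insert_of_mem hb₁
      · have h1 := smul_mem_nbrs G g hu
        rw [hg] at h1
        by_cases e : g • u = a
        · rw [e]; exact Finset.mem_insert_self _ _
        · exact Finset.mem_insert_of_mem (hcon _ _ hb₁ h1 e)
    haveI : Nontrivial α := Fintype.one_lt_card_iff_nontrivial.1 (by omega)
    have hgS : g ∉ S := fun h => by
      rw [mem_stabilizer_iff, hg] at h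
      exact (mem_nbrs G |>.1 hb₁).1 h
    have htop : T = ⊤ := (IsPreprimitive.isCoatom_stabilizer_of_isPreprimitive G (a := a)).2 T
      (lt_of_le_of_ne hST fun e => hgS (by rw [show S = T from e]; exact hgT))
    have : (Finset.univ : Finset α) ⊆ B := fun u _ => by
      obtain ⟨h, rfl⟩ := exists_smul_eq G a u
      have hh : h ∈ T := htop ▸ Subgroup.mem_top h
      exact (hh a).1 (Finset.mem_insert_self _ _)
    have := Finset.card_le_card this
    rw [Finset.card_univ, hα, hBc] at this
    omega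
  -- the action on the two neighbourhoods is faithful
  have hmove : ∀ (k : S) (u : α), u ∈ nbrs G a → (k : G) • u ∈ nbrs G a := fun k u hu => by
    have := smul_mem_nbrs G (k : G) hu
    rwa [mem_stabilizer_iff.1 k.2] at this
  let σ : S →* Equiv.Perm {u // u ∈ nbrs G a} := MonoidHom.mk' (fun k =>
    { toFun := fun v => ⟨(k : G) • (v : α), hmove k v v.2⟩
      invFun := fun v => ⟨((k⁻¹ : S) : G) • (v : α), hmove k⁻¹ v v.2⟩
      left_inv := fun v => Subtype.ext (inv_smul_smul (k : G) (v : α))
      right_inv := fun v => Subtype.ext (smul_inv_smul (k : G) (v : α)) })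
    fun k l => Equiv.ext fun v => Subtype.ext (mul_smul (k : G) (l : G) (v : α))
  have hK : ∀ (k : σ.ker) (v : {u // u ∈ nbrs G a}), ((k : S) : G) • (v : α) = v := fun k v =>
    congrArg Subtype.val (Equiv.congr_fun (MonoidHom.mem_ker.1 k.2) v)
  have hmove2 : ∀ (k : σ.ker) (v : {u // u ∈ nbrs G a}) (w : α), w ∈ (nbrs G (v : α)).erase a →
      ((k : S) : G) • w ∈ (nbrs G (v : α)).erase a := by
    intro k v w hw
    rw [Finset.mem_erase] at hw ⊢
    constructor
    · intro e
      have h2 : ((k : S) : G) • w = ((k : S) : G) • a := e.trans (mem_stabilizer_iff.1 (k : S).2).symm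
      exact hw.1 (smul_left_cancel _ h2)
    · have := smul_mem_nbrs G ((k : S) : G) hw.2
      rwa [hK k v] at this
  let τ : σ.ker →* ((v : {u // u ∈ nbrs G a}) → Equiv.Perm {w // w ∈ (nbrs G (v : α)).erase a}) :=
    MonoidHom.mk' (fun k v =>
    { toFun := fun w => ⟨((k : S) : G) • (w : α), hmove2 k v w w.2⟩
      invFun := fun w => ⟨(((k⁻¹ : σ.ker) : S) : G) • (w : α), hmove2 k⁻¹ v w w.2⟩
      left_inv := fun w => Subtype.ext (inv_smul_smul ((k : S) : G) (w : α))
      right_inv := fun w => Subtype.ext (smul_inv_smul ((k : S) : G) (w : α)) })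
    fun k l => funext fun v => Equiv.ext fun w => Subtype.ext (mul_smul ((k : S) : G) ((l : S) : G) (w : α))
  have hy6 : Nat.card (orbit S y) = 6 := by
    rcases hsub y hya with e | e
    · exact absurd ((mem_nbrs G).2 ⟨hya, e⟩) hyn
    · exact e
  have hyc : y ∈ orbit S c₆ := (hall y hya).resolve_left fun e => hyn ((hnb y).2 e)
  have hinj : Function.Injective τ := by
    rw [injective_iff_map_eq_one]
    intro k hk
    have hw : ∀ v ∈ nbrs G a, ∀ w ∈ nbrs G v, ((k : S) : G) • w = w := by
      intro v hv w hw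
      by_cases e : w = a
      · rw [e]; exact mem_stabilizer_iff.1 (k : S).2
      · exact congrArg Subtype.val (Equiv.congr_fun (congrFun hk ⟨v, hv⟩) ⟨w, Finset.mem_erase.2 ⟨e, hw⟩⟩)
    have hall' : ∀ u : α, ((k : S) : G) • u = u := by
      intro u
      by_cases hu : u = a
      · rw [hu]; exact mem_stabilizer_iff.1 (k : S).2
      rcases hall u hu with h | h
      · exact hK k ⟨u, (hnb u).2 h⟩
      · rw [← orbit_eq_iff.2 hyc] at h
        obtain ⟨l, rfl⟩ := h
        exact hw _ (hmove l b₀ hb₀) _ (smul_mem_nbrs G (l : G) hy)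
    exact Subtype.ext (Subtype.ext (Subtype.ext (Equiv.ext hall')))
  have h8 : Nat.card σ.ker ∣ 8 := by
    refine (Subgroup.card_dvd_of_injective τ hinj).trans (dvd_of_eq ?_)
    rw [Nat.card_pi, Finset.prod_congr rfl (g := fun _ => 2) fun v _ => by
      rw [Nat.card_perm, Nat.card_eq_fintype_card, Fintype.card_coe,
        Finset.card_erase_of_mem ((mem_nbrs_comm G).1 v.2), hn3]
      rfl]
    rw [Finset.prod_const, Finset.card_univ, Fintype.card_coe, hn3]
    norm_num
  have h6' : σ.ker.index ∣ 6 := by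
    rw [Subgroup.index_ker]
    refine (Subgroup.card_subgroup_dvd_card σ.range).trans (dvd_of_eq ?_)
    rw [Nat.card_perm, Nat.card_eq_fintype_card, Fintype.card_coe, hn3]
    rfl
  rw [← σ.ker.card_mul_index]
  exact Nat.mul_dvd_mul h8 h6'

/-- Primitive groups of degree `2 p`, not doubly transitive, with a Sylow normaliser of order `2 p`. -/
theorem degree_two_p (hp3 : 3 < p) (hα : Fintype.card α = 2 * p) (G : Subgroup (Equiv.Perm α))
    (hprim : IsPreprimitive G α) (h2 : ¬ IsMultiplyPretransitive G α 2) (P : Sylow p G)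
    (hN : Nat.card (Subgroup.normalizer ((P : Subgroup G) : Set G)) = 2 * p) :
    p = 5 ∧ Nonempty (G ≃* alternatingGroup (Fin 5)) := by
  classical
  haveI := hprim
  haveI : Fintype G := Fintype.ofFinite G
  have hp : p.Prime := Fact.out
  have hp5 : 5 ≤ p := by
    by_contra h
    have : p = 4 := by omega
    rw [this] at hp
    exact absurd hp (by decide)
  have hfpf : FpfData G p := (fpfData_or_two_transitive (by omega) hα G hprim).resolve_right h2
  obtain ⟨a₀⟩ : Nonempty α := Fintype.card_pos_iff.1 (by omega)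
  haveI : Nonempty α := ⟨a₀⟩
  obtain ⟨hrank, k, hk, hpk, hsub⟩ := (WielandtTwoP.main hp hα G hprim a₀).resolve_left h2
  have hidx : Nat.card (stabilizer G a₀) * (2 * p) = Nat.card G := by
    rw [← Subgroup.card_mul_index (stabilizer G a₀), index_stabilizer_of_transitive G a₀, Nat.card_eq_fintype_card
      (α := α), hα]
  have hk1 : k = 1 := by
    by_contra hne
    have hp7 : 7 ≤ p := by
      have : 2 * 2 ≤ 2 * k := by omega
      nlinarith
    obtain ⟨D, χ, hH, hint, hfaith⟩ := exists_hyp hp5 hα G h2 hfpf P hN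
    have hG := hH.card_eq hp7 hint hfaith
    have h1 : 2 * Nat.card (stabilizer G a₀) = (p - 1) * (p - 2) :=
      Nat.eq_of_mul_eq_mul_left hp.pos (by rw [← hG, ← hidx]; ring)
    obtain ⟨b, hb⟩ : ∃ b, b ≠ a₀ := Fintype.exists_ne_of_one_lt_card (by omega) a₀
    have h3 : 2 * k + 1 ∣ Nat.card (stabilizer G a₀) := by
      have hd : Nat.card (orbit (stabilizer G a₀) b) ∣ Nat.card (stabilizer G a₀) := by
        have h4 := Subgroup.index_dvd_card (stabilizer (stabilizer G a₀) b)
        rwa [MulAction.index_stabilizer, ← Nat.card_coe_set_eq] at h4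
      rcases hsub b hb with e | e <;> rw [e] at hd <;> exact (dvd_mul_left _ _).trans hd
    have h4 : ((2 * k + 1 : ℕ) : ℤ) ∣ 4 * ((p : ℤ) - 1) * ((p : ℤ) - 2) := by
      have h5 : ((2 * k + 1 : ℕ) : ℤ) ∣ ((2 * Nat.card (stabilizer G a₀) : ℕ) : ℤ) :=
        Int.natCast_dvd_natCast.2 (Dvd.dvd.mul_left h3 2)
      rw [h1, Nat.cast_mul, Nat.cast_sub hp.one_le, Nat.cast_sub hp.two_le] at h5
      push_cast at h5 ⊢
      rw [mul_assoc]
      exact h5.mul_left 4
    have h6 : ((2 * k + 1 : ℕ) : ℤ) ∣ 3 := by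
      have h7 : (4 : ℤ) * ((p : ℤ) - 1) * ((p : ℤ) - 2) = 3 + ((2 * k + 1 : ℕ) : ℤ) *
          ((((2 * k + 1 : ℕ) : ℤ)) ^ 3 - 4 * ((2 * k + 1 : ℕ) : ℤ)) := by
        rw [hpk]; push_cast; ring
      rw [h7] at h4
      exact (Int.dvd_add_left (dvd_mul_right _ _)).1 h4
    have := Int.le_of_dvd (by norm_num) h6
    omega
  subst hk1
  have hp5' : p = 5 := by rw [hpk]; norm_num
  refine ⟨hp5', ?_⟩
  subst hp5'
  have hP : Nat.card P = 5 := by
    have hfac : (Nat.card G).factorization 5 = 1 := by
      have a1 := (hp.pow_dvd_iff_le_factorization Nat.card_pos.ne').not.1 hfpf.hsq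
      have a2 := (hp.pow_dvd_iff_le_factorization (k := 1) Nat.card_pos.ne').1 (by rw [pow_one]; exact hfpf.hdvd)
      omega
    rw [P.card_eq_multiplicity, hfac, pow_one]
  have hsyl : Nat.card (Sylow 5 G) = Nat.card (stabilizer G a₀) := by
    have h1 := Subgroup.card_mul_index (Subgroup.normalizer ((P : Subgroup G) : Set G))
    have h0 : Nat.card (Sylow 5 G) = (Subgroup.normalizer ((P : Subgroup G) : Set G)).index :=
      P.card_eq_index_normalizer
    rw [hN, ← h0, ← hidx] at h1
    omega
  have hmod : Nat.card (stabilizer G a₀) % 5 = 1 := by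
    have := card_sylow_modEq_one 5 G
    rw [hsyl] at this
    exact this
  obtain ⟨h6, h48⟩ := card_stab_ten (by rw [hα]) G a₀ hrank (by simpa using hsub)
  have h60 : Nat.card G = 60 := by
    rw [← hidx]
    obtain ⟨m, hm⟩ := h6
    rw [hm] at h48 hmod ⊢
    have hm8 : m ∣ 8 := Nat.dvd_of_mul_dvd_mul_left (by norm_num : 0 < 6) h48
    have hle := Nat.le_of_dvd (by norm_num) hm8
    interval_cases m <;> omega
  haveI := isSimpleGroup hα G hfpf.hsq P hP hN
  exact CfsgLib.H29.Dickson.iso_alternating_five_of_simple h60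

end CfsgLib.DegPred
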